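import Mathlib
import Groth.Prelude.Def_FlatCA

/-! The fibre module of a module over an algebra as a localization of `N / pN`. -/

namespace Groth.Agent.CAlgFib

open TensorProduct

attribute [local instance] Algebra.TensorProduct.rightAlgebra

universe u

variable {R S : Type u} [CommRing R] [CommRing S] [Algebra R S] (p : Ideal R) [p.IsPrime]
variable (N : Type u) [AddCommGroup N] [Module S N] [Module R N] [IsScalarTower R S N]

/-- The structure map of the fibre ring. -/
noncomputable abbrev ι : S →+* p.Fiber S :=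
  (Algebra.TensorProduct.includeRight (R := R) (A := p.ResidueField) (B := S)).toRingHom

theorem ι_algebraMap (r : R) : ι (S := S) p (algebraMap R S r) = algebraMap R p.ResidueField r ⊗ₜ[R] (1 : S) := by
  show (1 : p.ResidueField) ⊗ₜ[R] algebraMap R S r = _
  rw [Algebra.algebraMap_eq_smul_one, TensorProduct.tmul_smul, TensorProduct.smul_tmul',
    Algebra.algebraMap_eq_smul_one]

theorem ι_isUnit {r : R} (hr : r ∉ p) : IsUnit (ι (S := S) p (algebraMap R S r)) := by
  rw [ι_algebraMap]
  refine (IsUnit.mk0 _ fun h => hr ?_).map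
    (Algebra.TensorProduct.includeLeft : p.ResidueField →ₐ[R] p.Fiber S)
  exact Ideal.algebraMap_residueField_eq_zero.mp h

theorem ι_eq_zero {r : R} (hr : r ∈ p) : ι (S := S) p (algebraMap R S r) = 0 := by
  rw [ι_algebraMap, Ideal.algebraMap_residueField_eq_zero.mpr hr, TensorProduct.zero_tmul]

theorem smul_eq (s : S) (m : FlatCA.fiberMod p S N) : s • m = ι p s • m := by
  show s • (show (p.Fiber S) ⊗[S] N from m) = ι p s • (show (p.Fiber S) ⊗[S] N from m)
  exact (algebraMap_smul (p.Fiber S) s (show (p.Fiber S) ⊗[S] N from m)).symm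

/-- Every element of the fibre ring is an element of `S` up to an element outside `p`. -/
theorem exists_factor (x : p.Fiber S) : ∃ r ∉ p, ∃ s, ι p (algebraMap R S r) * x = ι p s := by
  induction x using TensorProduct.induction_on with
  | zero => exact ⟨1, p.primeCompl.one_mem, 0, by simp⟩
  | tmul c s =>
    obtain ⟨a, b, hb, hc⟩ := IsFractionRing.div_surjective (A := R ⧸ p) c
    obtain ⟨a, rfl⟩ := Ideal.Quotient.mk_surjective a
    obtain ⟨b, rfl⟩ := Ideal.Quotient.mk_surjective b
    have hb' : b ∉ p := fun h => nonZeroDivisors.ne_zero hb (Ideal.Quotient.eq_zero_iff_mem.mpr h)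
    refine ⟨b, hb', algebraMap R S a * s, ?_⟩
    rw [map_mul, ι_algebraMap, ι_algebraMap]
    show (algebraMap R p.ResidueField b ⊗ₜ[R] (1 : S)) * (c ⊗ₜ[R] s) =
      (algebraMap R p.ResidueField a ⊗ₜ[R] (1 : S)) * ((1 : p.ResidueField) ⊗ₜ[R] s)
    rw [Algebra.TensorProduct.tmul_mul_tmul, Algebra.TensorProduct.tmul_mul_tmul, one_mul, mul_one, ← hc]
    congr 1
    show algebraMap R p.ResidueField b * (algebraMap (R ⧸ p) p.ResidueField (Ideal.Quotient.mk p a) /
      algebraMap (R ⧸ p) p.ResidueField (Ideal.Quotient.mk p b)) = _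
    rw [show algebraMap (R ⧸ p) p.ResidueField (Ideal.Quotient.mk p b) = algebraMap R p.ResidueField b from rfl,
      show algebraMap (R ⧸ p) p.ResidueField (Ideal.Quotient.mk p a) = algebraMap R p.ResidueField a from rfl,
      mul_div_cancel₀]
    exact fun h => hb' (Ideal.algebraMap_residueField_eq_zero.mp h)
  | add x y hx hy =>
    obtain ⟨r, hr, s, h⟩ := hx
    obtain ⟨r', hr', s', h'⟩ := hy
    refine ⟨r * r', p.primeCompl.mul_mem hr hr', algebraMap R S r' * s + algebraMap R S r * s', ?_⟩
    simp only [map_mul, map_add]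
    linear_combination (ι p (algebraMap R S r')) * h + (ι p (algebraMap R S r)) * h'

/-- Every element of the fibre module comes from `N` up to an element outside `p`. -/
theorem exists_factor_mod (m : FlatCA.fiberMod p S N) :
    ∃ r ∉ p, ∃ n, algebraMap R S r • m = FlatCA.toFiberMod (S := S) p (N := N) n := by
  change (p.Fiber S) ⊗[S] N at m
  induction m using TensorProduct.induction_on with
  | zero => exact ⟨1, p.primeCompl.one_mem, 0, (smul_zero (A := (p.Fiber S) ⊗[S] N) _).trans (map_zero (FlatCA.toFiberMod (S := S) p (N := N))).symm⟩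
  | tmul x n =>
    obtain ⟨r, hr, s, h⟩ := exists_factor p x
    refine ⟨r, hr, s • n, ?_⟩
    show algebraMap R S r • (x ⊗ₜ[S] n) = (1 : p.Fiber S) ⊗ₜ[S] (s • n)
    rw [TensorProduct.smul_tmul', TensorProduct.tmul_smul, TensorProduct.smul_tmul', Algebra.smul_def,
      Algebra.smul_def, mul_one]
    exact congrArg (· ⊗ₜ[S] n) h
  | add a b ha hb =>
    obtain ⟨r, hr, n, h⟩ := ha
    obtain ⟨r', hr', n', h'⟩ := hb
    refine ⟨r * r', p.primeCompl.mul_mem hr hr', algebraMap R S r' • n + algebraMap R S r • n', ?_⟩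
    rw [map_mul, map_add, map_smul, map_smul]
    show _ = algebraMap R S r' • FlatCA.toFiberMod (S := S) p (N := N) n + algebraMap R S r • FlatCA.toFiberMod (S := S) p (N := N) n'
    rw [← h, ← h']
    show (algebraMap R S r * algebraMap R S r') • (a + b) =
      algebraMap R S r' • algebraMap R S r • a + algebraMap R S r • algebraMap R S r' • b
    rw [smul_add, smul_smul, smul_smul, mul_comm (algebraMap R S r')]

/-- An element of `N` killed in `κ(p) ⊗ N` is moved into `pN` by an element outside `p`. -/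
theorem exists_of_one_tmul_eq_zero {M : Type u} [AddCommGroup M] [Module R M] (n : M)
    (h : (1 : p.ResidueField) ⊗ₜ[R] n = 0) : ∃ r ∉ p, r • n ∈ p • (⊤ : Submodule R M) := by
  let T := (R ⧸ p) ⊗[R] M
  have h1 : (1 : p.ResidueField) ⊗ₜ[R ⧸ p] ((1 : R ⧸ p) ⊗ₜ[R] n) = (0 : p.ResidueField ⊗[R ⧸ p] T) := by
    apply (AlgebraTensorModule.cancelBaseChange R (R ⧸ p) p.ResidueField p.ResidueField M).injective
    rw [map_zero, AlgebraTensorModule.cancelBaseChange_tmul, one_smul]
    exact h
  haveI : IsLocalizedModule (nonZeroDivisors (R ⧸ p)) (TensorProduct.mk (R ⧸ p) p.ResidueField T 1) :=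
    (isLocalizedModule_iff_isBaseChange (nonZeroDivisors (R ⧸ p)) p.ResidueField _).mpr
      (TensorProduct.isBaseChange _ _ _)
  obtain ⟨⟨b, hb⟩, hbn⟩ := (IsLocalizedModule.eq_zero_iff (nonZeroDivisors (R ⧸ p))
    (TensorProduct.mk (R ⧸ p) p.ResidueField T 1)).mp h1
  obtain ⟨r, rfl⟩ := Ideal.Quotient.mk_surjective b
  refine ⟨r, fun hr => nonZeroDivisors.ne_zero hb (Ideal.Quotient.eq_zero_iff_mem.mpr hr), ?_⟩
  rw [← Submodule.Quotient.mk_eq_zero (p := p • (⊤ : Submodule R M)),
    ← quotTensorEquivQuotSMul_mk_tmul]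
  rw [show (Ideal.Quotient.mk p r) ⊗ₜ[R] n = (Ideal.Quotient.mk p r) • ((1 : R ⧸ p) ⊗ₜ[R] n) by
    rw [TensorProduct.smul_tmul', smul_eq_mul, mul_one]]
  have hbn' : (Ideal.Quotient.mk p r) • ((1 : R ⧸ p) ⊗ₜ[R] n) = (0 : T) := hbn
  rw [hbn', map_zero]

/-- Forget the fibre ring. -/
noncomputable def toResidueTensor : (p.Fiber S) ⊗[S] N →+ p.ResidueField ⊗[R] N :=
  let φ : p.Fiber S →ₗ[R] N →ₗ[R] p.ResidueField ⊗[R] N :=
    TensorProduct.lift
      { toFun := fun c =>
          { toFun := fun s => (TensorProduct.mk R p.ResidueField N c).comp ((Algebra.lsmul R R N) s)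
            map_add' := fun a b => LinearMap.ext fun n => by simp [add_smul, TensorProduct.tmul_add]
            map_smul' := fun a b => LinearMap.ext fun n => by simp [TensorProduct.tmul_smul] }
        map_add' := fun a b => LinearMap.ext fun s => LinearMap.ext fun n => by simp [TensorProduct.add_tmul]
        map_smul' := fun a b => LinearMap.ext fun s => LinearMap.ext fun n => by simp [TensorProduct.smul_tmul'] }
  TensorProduct.liftAddHom
    { toFun := fun x => (φ x).toAddMonoidHom
      map_zero' := by ext; simp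
      map_add' := fun a b => by ext; simp }
    (fun s x n => by
      show φ (s • x) n = φ x (s • n)
      induction x using TensorProduct.induction_on with
      | zero => simp
      | tmul c t =>
        have : s • (c ⊗ₜ[R] t : p.Fiber S) = c ⊗ₜ[R] (s * t) := by
          rw [Algebra.smul_def]
          show ((1 : p.ResidueField) ⊗ₜ[R] s) * (c ⊗ₜ[R] t) = _
          rw [Algebra.TensorProduct.tmul_mul_tmul, one_mul]
        rw [this]
        simp [φ, smul_smul, mul_comm]
      | add a b ha hb => simp only [smul_add, map_add, LinearMap.add_apply, ha, hb])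

theorem toFiberMod_eq_zero_iff (n : N) : FlatCA.toFiberMod (S := S) p (N := N) n = 0 ↔
    ∃ r ∉ p, algebraMap R S r • n ∈ (p.map (algebraMap R S)) • (⊤ : Submodule S N) := by
  constructor
  · intro h
    have h1 : ((1 : p.Fiber S) ⊗ₜ[S] n : (p.Fiber S) ⊗[S] N) = 0 := h
    have h2 := congrArg (toResidueTensor p N) h1
    rw [map_zero] at h2
    have h3 : (1 : p.ResidueField) ⊗ₜ[R] n = 0 := by
      rw [← h2, Algebra.TensorProduct.one_def]
      simp [toResidueTensor]
    obtain ⟨r, hr, hrn⟩ := exists_of_one_tmul_eq_zero p n h3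
    refine ⟨r, hr, ?_⟩
    rw [algebraMap_smul, ← Submodule.restrictScalars_mem R, Submodule.restrictScalars_map_smul_eq,
      Submodule.restrictScalars_top]
    exact hrn
  · rintro ⟨r, hr, hrn⟩
    obtain ⟨u, hu⟩ := ι_isUnit (S := S) p hr
    have h0 : ∀ z ∈ (p.map (algebraMap R S)) • (⊤ : Submodule S N), FlatCA.toFiberMod (S := S) p (N := N) z = 0 := by
      intro z hz
      refine Submodule.smul_induction_on hz (fun a ha y _ => ?_) (fun a b ha hb => by rw [map_add, ha, hb, add_zero])
      rw [map_smul, smul_eq]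
      have : ι (S := S) p a = 0 := by
        have hle : p.map (algebraMap R S) ≤ RingHom.ker (ι (S := S) p) :=
          Ideal.map_le_iff_le_comap.mpr fun b hb => ι_eq_zero p hb
        exact hle ha
      rw [this, zero_smul]
    have h1 := h0 _ hrn
    rw [map_smul, smul_eq, ← hu] at h1
    have h2 : ((u⁻¹ : (p.Fiber S)ˣ) : p.Fiber S) • ((u : p.Fiber S) • FlatCA.toFiberMod (S := S) p (N := N) n) = 0 := by
      rw [h1, smul_zero]
    rwa [smul_smul, Units.inv_mul, one_smul] at h2

end Groth.Agent.CAlgFib
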